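import Cfsg.Agent.ThreeInvolutions.Core
import Cfsg.Agent.Kinf.Critical
import Cfsg.Agent.Kinf.TechExercises

/-!
A 2-group with three involutions has solvable automorphism group.
-/

set_option autoImplicit false
set_option linter.style.haveILetI false
set_option linter.unusedSectionVars false
set_option linter.unusedDecidableInType false

namespace CfsgLib.ThreeInvolutions

open Subgroup
open scoped commutatorElement

instance finite_mulAut {G : Type*} [Group G] [Finite G] : Finite (MulAut G) :=
  Finite.of_injective (fun f : MulAut G => (f : G → G)) DFunLike.coe_injective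

/-- Restriction of automorphisms to a characteristic subgroup. -/
noncomputable def restr {G : Type*} [Group G] (H : Subgroup G) [hH : H.Characteristic] : MulAut G →* MulAut H where
  toFun φ := (φ.subgroupMap H).trans (MulEquiv.subgroupCongr (characteristic_iff_map_eq.1 hH φ))
  map_one' := MulEquiv.ext fun _ => rfl
  map_mul' _ _ := MulEquiv.ext fun _ => rfl

theorem restr_apply {G : Type*} [Group G] (H : Subgroup G) [H.Characteristic] (φ : MulAut G) (h : H) :
    ((restr H φ h : H) : G) = φ h := rfl

theorem isPGroup_two_of_odd_trivial {K : Type*} [Group K] [Finite K]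
    (h : ∀ a : K, Odd (orderOf a) → a = 1) : IsPGroup 2 K := by
  intro a
  obtain ⟨e, m, hm, hord⟩ := Nat.exists_eq_pow_mul_and_not_dvd (orderOf_pos a).ne' 2 (by norm_num)
  refine ⟨e, h _ ?_⟩
  rw [orderOf_pow_of_dvd (by positivity) ⟨m, hord⟩, hord, Nat.mul_div_cancel_left _ (by positivity)]
  exact Nat.odd_iff.2 (Nat.two_dvd_ne_zero.1 hm)

theorem isQuad_of_defect {W V : Type*} [CommGroup W] [CommGroup V] (q : W → V) (hV : ∀ v : V, v * v = 1)
    (hq1 : q 1 = 1) (hβ : ∀ x y z, defect q x (y * z) = defect q x y * defect q x z) :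
    CfsgLib.QuadMap.IsQuad q := by
  intro a b x
  have hc : ∀ v w : V, v * (v * w) = w := fun v w => by rw [← mul_assoc, hV, one_mul]
  have hexp : ∀ u w, q (u * w) = defect q u w * (q u * q w) := fun u w => by
    rw [defect]; simp only [mul_comm, mul_assoc, mul_left_comm, hV, hc, mul_one]
  rw [hexp a (b * x), hexp a x, hexp a b, hβ, hq1]
  simp only [mul_comm, mul_assoc, mul_left_comm, hV, hc, mul_one, one_mul]

/-- Exponent four with at most four solutions of `x² = 1`. -/
theorem solvable_aut_exp_four {D : Type*} [Group D] [Finite D] (h2 : IsPGroup 2 D) (h4 : ∀ x : D, x ^ 4 = 1)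
    (hcount : ∀ S : Finset D, (∀ x ∈ S, x * x = 1) → S.card ≤ 4) : Group.IsSolvable (MulAut D) := by
  classical
  haveI : Fact (Nat.Prime 2) := ⟨Nat.prime_two⟩
  have h4' : ∀ x : D, (x * x) * (x * x) = 1 := fun x => by rw [← h4 x]; simp only [pow_succ, pow_zero, one_mul, mul_assoc]
  have hcomm : ∀ t : D, t * t = 1 → ∀ d, d * t = t * d := by
    intro t ht d
    by_contra hne
    haveI : Nontrivial D := ⟨d * t, t * d, hne⟩
    obtain ⟨z, hzc, hz1, hz2⟩ : ∃ z : D, (∀ g, g * z = z * g) ∧ z ≠ 1 ∧ z * z = 1 := by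
      haveI := h2.center_nontrivial
      obtain ⟨⟨c, hc⟩, hc1⟩ := exists_ne (1 : center D)
      have hc1' : c ≠ 1 := fun e => hc1 (Subtype.ext e)
      by_cases hcc : c * c = 1
      · exact ⟨c, mem_center_iff.1 hc, hc1', hcc⟩
      · exact ⟨c * c, mem_center_iff.1 (mul_mem hc hc), hcc, h4' c⟩
    have htz : t ≠ z := fun e => hne (e ▸ hzc d)
    have ht1 : t ≠ 1 := fun e => hne (by rw [e, mul_one, one_mul])
    have htz2 : t * z * (t * z) = 1 := by
      rw [mul_assoc, ← mul_assoc z, ← hzc t, mul_assoc t z z, hz2, mul_one, ht]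
    set S : Finset D := {1, z, t, t * z} with hS
    have hS4 : S.card = 4 := by
      have e3 : t * z ≠ 1 := fun e => htz (by
        calc t = t * (z * z) := by rw [hz2, mul_one]
          _ = t * z * z := (mul_assoc _ _ _).symm
          _ = z := by rw [e, one_mul])
      rw [hS, Finset.card_insert_of_notMem (by simp [Ne.symm hz1, Ne.symm ht1, Ne.symm e3]),
        Finset.card_insert_of_notMem (by simp [Ne.symm htz, ht1]),
        Finset.card_insert_of_notMem (by simp [hz1]), Finset.card_singleton]
    have hSq : ∀ x ∈ S, x * x = 1 := by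
      intro x hx
      simp only [hS, Finset.mem_insert, Finset.mem_singleton] at hx
      rcases hx with rfl | rfl | rfl | rfl
      exacts [one_mul 1, hz2, ht, htz2]
    have hmem : ∀ x, x * x = 1 → x ∈ S := fun x hx => by
      by_contra hn
      have := hcount (insert x S) (fun y hy => (Finset.mem_insert.1 hy).elim (fun e => e ▸ hx) (hSq y))
      rw [Finset.card_insert_of_notMem hn, hS4] at this
      omega
    have hSt : ∀ x ∈ S, x * t = t * x := by
      intro x hx
      simp only [hS, Finset.mem_insert, Finset.mem_singleton] at hx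
      rcases hx with rfl | rfl | rfl | rfl
      exacts [by rw [one_mul, mul_one], (hzc t).symm, rfl, by rw [mul_assoc, ← hzc t]]
    have hconj : d * t * d⁻¹ = t * z := by
      have hm := hmem (d * t * d⁻¹) (by
        rw [show d * t * d⁻¹ * (d * t * d⁻¹) = d * (t * t) * d⁻¹ by group, ht, mul_one, mul_inv_cancel])
      simp only [hS, Finset.mem_insert, Finset.mem_singleton] at hm
      rcases hm with h | h | h | h
      · exact absurd (conj_eq_one_iff.1 h) ht1
      · exact absurd (by
          calc t = d⁻¹ * (d * t * d⁻¹) * d := by group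
            _ = z := by rw [h, mul_assoc, ← hzc d, inv_mul_cancel_left]) htz
      · exact absurd (mul_inv_eq_iff_eq_mul.1 h) hne
      · exact h
    have hu := hmem (d * d) (h4' d)
    simp only [hS, Finset.mem_insert, Finset.mem_singleton] at hu
    rcases hu with h | h | h | h
    · exact hne (hSt d (hmem d h))
    · have hdt : d * t * (d * t) = 1 := by
        calc d * t * (d * t) = (d * t * d⁻¹) * (d * d) * t := by group
          _ = t * (z * z) * t := by rw [hconj, h, mul_assoc t z z]
          _ = 1 := by rw [hz2, mul_one, ht]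
      have h' := hSt _ (hmem _ hdt)
      exact hne (mul_right_cancel (b := t) (h'.trans (by rw [mul_assoc])))
    · exact hne (h ▸ mul_assoc d d d |>.symm)
    · refine hne (mul_right_cancel (b := z) ?_)
      have h' : d * (t * z) = t * z * d := by rw [← h, mul_assoc]
      rw [mul_assoc, mul_assoc, hzc d, ← mul_assoc t, ← h']
  -- the subgroup of solutions
  let Vs : Subgroup D :=
    { carrier := {x | x * x = 1}
      one_mem' := one_mul 1
      mul_mem' := fun {a b} ha hb => by
        show a * b * (a * b) = 1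
        rw [mul_assoc, ← mul_assoc b, hcomm a ha b, mul_assoc a b b, (hb : b * b = 1), mul_one]
        exact ha
      inv_mem' := fun {a} ha => by
        show a⁻¹ * a⁻¹ = 1
        rw [← mul_inv_rev, (ha : a * a = 1), inv_one] }
  have hmemV : ∀ x, x ∈ Vs ↔ x * x = 1 := fun x => Iff.rfl
  have hcen : ∀ v ∈ Vs, ∀ g, g * v = v * g := fun v hv g => hcomm v hv g
  haveI : Vs.Normal := ⟨fun v hv g => by rw [hcen v hv g, mul_inv_cancel_right]; exact hv⟩
  haveI hVc : Vs.Characteristic := characteristic_iff_le_comap.2 fun φ x hx => by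
    show φ x * φ x = 1
    rw [← map_mul, (hx : x * x = 1), map_one]
  have hV4 : Nat.card Vs ≤ 4 := by
    haveI := Fintype.ofFinite D
    rw [Nat.card_eq_fintype_card, Fintype.card_subtype]
    exact hcount _ fun x hx => (Finset.mem_filter.1 hx).2
  -- action on the solutions
  let f : MulAut D →* Equiv.Perm Vs :=
    { toFun := fun φ => (restr Vs φ).toEquiv
      map_one' := by ext; rfl
      map_mul' := fun _ _ => by ext; rfl }
  refine solvable_of_ker f ?_ (by haveI := perm_solvable hV4; infer_instance)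
  have hfix : ∀ φ : f.ker, ∀ v ∈ Vs, (φ : MulAut D) v = v := fun φ v hv =>
    congrArg Subtype.val (Equiv.ext_iff.1 (MonoidHom.mem_ker.1 φ.2) ⟨v, hv⟩)
  have hsq : ∀ x : D, x * x ∈ Vs := h4'
  -- the quotient
  have hquot : ∀ a b : D ⧸ Vs, a * b = b * a := by
    intro a b
    induction a using QuotientGroup.induction_on with | _ x => ?_
    induction b using QuotientGroup.induction_on with | _ y => ?_
    have h : x * y * x⁻¹ * y⁻¹ ∈ Vs := by
      have e : x * y * x⁻¹ * y⁻¹ = (x * x) * ((x⁻¹ * y) * (x⁻¹ * y)) * (y⁻¹ * y⁻¹) := by group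
      rw [e]
      exact mul_mem (mul_mem (hsq _) (hsq _)) (hsq _)
    rw [← QuotientGroup.eq_one_iff] at h
    rw [QuotientGroup.mk_mul, QuotientGroup.mk_mul, QuotientGroup.mk_mul, QuotientGroup.mk_inv,
      QuotientGroup.mk_inv] at h
    exact mul_inv_eq_iff_eq_mul.1 (mul_inv_eq_one.1 h)
  letI : CommGroup (D ⧸ Vs) := { (inferInstance : Group (D ⧸ Vs)) with mul_comm := hquot }
  letI : CommGroup Vs :=
    { (inferInstance : Group Vs) with mul_comm := fun a b => Subtype.ext (hcen _ b.2 _) }
  have hW : ∀ w : D ⧸ Vs, w * w = 1 := fun w => by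
    induction w using QuotientGroup.induction_on with | _ x => ?_
    rw [← QuotientGroup.mk_mul]; exact (QuotientGroup.eq_one_iff _).2 (hsq x)
  have hVV : ∀ v : Vs, v * v = 1 := fun v => Subtype.ext v.2
  let q : D ⧸ Vs → Vs := fun w => ⟨w.out * w.out, hsq _⟩
  have hq : ∀ x : D, (q x : D) = x * x := by
    intro x
    obtain ⟨⟨v, hv⟩, he⟩ := QuotientGroup.mk_out_eq_mul Vs x
    show (x : D ⧸ Vs).out * (x : D ⧸ Vs).out = x * x
    rw [he]
    show x * v * (x * v) = x * x
    rw [mul_assoc, ← mul_assoc v, ← hcen v hv x, mul_assoc x v v, (hv : v * v = 1), mul_one]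
  have hq1 : q 1 = 1 := Subtype.ext (by rw [← QuotientGroup.mk_one, hq, one_mul]; rfl)
  have haniso : ∀ w, q w = 1 → w = 1 := fun w => by
    induction w using QuotientGroup.induction_on with | _ x => ?_
    intro h
    exact (QuotientGroup.eq_one_iff _).2 (((hq x).symm.trans (congrArg Subtype.val h) : x * x = 1))
  have hc : ∀ x y : D, x⁻¹ * y * x * y⁻¹ ∈ Vs := fun x y => by
    rw [← QuotientGroup.eq_one_iff]
    rw [QuotientGroup.mk_mul, QuotientGroup.mk_mul, QuotientGroup.mk_mul, QuotientGroup.mk_inv,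
      QuotientGroup.mk_inv, hquot ((x : D ⧸ Vs)⁻¹) y, mul_assoc (y : D ⧸ Vs), inv_mul_cancel, mul_one, mul_inv_cancel]
  have hdef : ∀ x y : D, ((defect q (x : D ⧸ Vs) (y : D ⧸ Vs) : Vs) : D) = x⁻¹ * y * x * y⁻¹ := by
    intro x y
    rw [defect, ← QuotientGroup.mk_mul, Subgroup.coe_mul, Subgroup.coe_mul, hq, hq, hq]
    calc x * y * (x * y) * (x * x) * (y * y)
        = x * x * (x⁻¹ * y * x * y⁻¹) * (y * y) * (x * x) * (y * y) := by group
      _ = (x⁻¹ * y * x * y⁻¹) * (x * x) * (y * y) * (x * x) * (y * y) := by rw [hcen _ (hc x y) (x * x)]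
      _ = (x⁻¹ * y * x * y⁻¹) * ((x * x) * ((y * y) * (x * x)) * (y * y)) := by group
      _ = (x⁻¹ * y * x * y⁻¹) * ((x * x * (x * x)) * (y * y * (y * y))) := by
          rw [hcen _ (hsq x) (y * y)]; group
      _ = _ := by rw [h4', h4', mul_one, mul_one]
  have hβ : ∀ a b c, defect q a (b * c) = defect q a b * defect q a c := by
    intro a b c
    induction a using QuotientGroup.induction_on with | _ x => ?_
    induction b using QuotientGroup.induction_on with | _ y => ?_
    induction c using QuotientGroup.induction_on with | _ z => ?_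
    refine Subtype.ext ?_
    rw [← QuotientGroup.mk_mul, Subgroup.coe_mul, hdef, hdef, hdef]
    calc x⁻¹ * (y * z) * x * (y * z)⁻¹ = x⁻¹ * y * x * ((x⁻¹ * z * x * z⁻¹) * y⁻¹) := by group
      _ = _ := by rw [← hcen _ (hc x z) y⁻¹]; group
  have hW16 : Nat.card (D ⧸ Vs) ≤ 16 :=
    (CfsgLib.QuadMap.card_le q hW hVV (isQuad_of_defect q hVV hq1 hβ) hq1 haniso).trans (by nlinarith)
  let ρ : f.ker →* MulAut (D ⧸ Vs) :=
    { toFun := fun φ => QuotientGroup.congr Vs Vs (φ : MulAut D) (characteristic_iff_map_eq.1 hVc _)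
      map_one' := MulEquiv.ext fun w => by
        induction w using QuotientGroup.induction_on with | _ x => ?_
        rfl
      map_mul' := fun _ _ => MulEquiv.ext fun w => by
        induction w using QuotientGroup.induction_on with | _ x => ?_
        rfl }
  refine solvable_of_ker ρ ?_ ?_
  · refine solvable_of_isPGroup_two fun φ => ⟨1, Subtype.ext (Subtype.ext (MulEquiv.ext fun x => ?_))⟩
    rw [pow_one, pow_two]
    show ((φ : f.ker) : MulAut D) (((φ : f.ker) : MulAut D) x) = x
    have h1 := MulEquiv.congr_fun (MonoidHom.mem_ker.1 φ.2) (x : D ⧸ Vs)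
    change ((((φ : f.ker) : MulAut D) x : D) : D ⧸ Vs) = (x : D ⧸ Vs) at h1
    have hv := QuotientGroup.eq.1 h1.symm
    have e : ((φ : f.ker) : MulAut D) x = x * (x⁻¹ * ((φ : f.ker) : MulAut D) x) := (mul_inv_cancel_left _ _).symm
    calc ((φ : f.ker) : MulAut D) (((φ : f.ker) : MulAut D) x)
        = ((φ : f.ker) : MulAut D) (x * (x⁻¹ * ((φ : f.ker) : MulAut D) x)) := by rw [← e]
      _ = x * (x⁻¹ * ((φ : f.ker) : MulAut D) x) * (x⁻¹ * ((φ : f.ker) : MulAut D) x) := by
          rw [map_mul, hfix _ _ hv, ← e]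
      _ = x := by
          rw [mul_assoc, show x⁻¹ * ((φ : f.ker) : MulAut D) x * (x⁻¹ * ((φ : f.ker) : MulAut D) x) = 1 from hv,
            mul_one]
  · refine stab_solvable (ρ := ρ.range.subtype) Subtype.val_injective hVV hW hW16 hq1 haniso hβ ?_
    rintro ⟨_, φ, rfl⟩ w
    induction w using QuotientGroup.induction_on with | _ x => ?_
    refine Subtype.ext ?_
    show (q ((((φ : f.ker) : MulAut D) x : D) : D ⧸ Vs) : D) = q (x : D ⧸ Vs)
    rw [hq, hq, ← map_mul, hfix φ _ (hsq x)]

/-- A 2-group with three involutions has solvable automorphism group. -/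
theorem solvable_mulAut {X : Type*} [Group X] [Finite X] (h2 : IsPGroup 2 X)
    (h3 : Nat.card {x : X // orderOf x = 2} = 3) : Group.IsSolvable (MulAut X) := by
  classical
  haveI : Fact (Nat.Prime 2) := ⟨Nat.prime_two⟩
  obtain ⟨C, hCc, hCp, hCz, hCC⟩ := CfsgLib.Kinf.exists_critical h2
  haveI := hCc
  refine solvable_of_ker (restr C) (solvable_of_isPGroup_two (isPGroup_two_of_odd_trivial fun φ hφ => ?_)) ?_
  · refine Subtype.ext ?_
    let e : MulAut X ≃* MulAut (⊤ : Subgroup X) := MulAut.congr Subgroup.topEquiv.symm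
    have h := CfsgLib.Kinf.aut_eq_one_of_critical (T := (⊤ : Subgroup X)) (A := C) (p := 2)
      (h2.to_subgroup ⊤) le_top (by rw [Subgroup.commutator_comm]; exact hCz)
      (by rw [top_inf_eq, inf_eq_right.2 hCC]) (e φ)
      (by rw [MulEquiv.orderOf_eq, Subgroup.orderOf_coe]; exact Nat.coprime_two_right.2 hφ)
      (fun x hx => Subtype.ext (by
        have := congrArg Subtype.val (MulEquiv.congr_fun (MonoidHom.mem_ker.1 φ.2) ⟨(x : X), hx⟩)
        exact this))
    exact e.injective (h.trans e.map_one.symm)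
  suffices Group.IsSolvable (MulAut C) by infer_instance
  have hcc : ∀ g h : C, ⁅g, h⁆ ∈ center C ∧ ⁅g, h⁆ ^ 2 = 1 := by
    intro g h
    have hz : ((⁅g, h⁆ : C) : X) ∈ centralizer (C : Set X) := (hCz (by
      show ⁅(g : X), (h : X)⁆ ∈ ⁅C, (⊤ : Subgroup X)⁆
      exact commutator_mem_commutator g.2 (mem_top _))).2
    have hzc : ⁅g, h⁆ ∈ center C := mem_center_iff.2 fun k => Subtype.ext (mem_centralizer_iff.1 hz k k.2)
    refine ⟨hzc, ?_⟩
    have hg2 : g * g * h = h * (g * g) := Subtype.ext (by
      have := mem_centralizer_iff.1 (hCp g g.2) h h.2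
      rw [pow_two] at this
      exact this.symm)
    have e : g * g * h * (g * g)⁻¹ = ⁅g, h⁆ * ⁅g, h⁆ * h := by
      calc g * g * h * (g * g)⁻¹ = g * (⁅g, h⁆ * h) * g⁻¹ := by rw [commutatorElement_def]; group
        _ = ⁅g, h⁆ * (g * h * g⁻¹) := by rw [← mul_assoc g, mem_center_iff.1 hzc g]; group
        _ = _ := by rw [commutatorElement_def]; group
    rw [hg2, mul_inv_cancel_right] at e
    rw [pow_two]
    exact mul_eq_right.1 e.symm
  have hcen : commutator C ≤ center C := by
    rw [_root_.commutator_def, Subgroup.commutator_le]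
    exact fun g _ h _ => (hcc g h).1
  have hel : Cfsg.IsElementaryAbelian 2 (commutator C) := by
    refine ⟨⟨⟨fun a b => Subtype.ext (mem_center_iff.1 (hcen b.2) a)⟩⟩, ?_⟩
    intro a ha
    rw [commutator_eq_closure] at ha
    induction ha using closure_induction with
    | mem y hy => obtain ⟨g, h, rfl⟩ := hy; exact (hcc g h).2
    | one => exact one_pow 2
    | mul x y hx' hy' hx hy =>
      rw [← commutator_eq_closure] at hy'
      rw [(show Commute x y from mem_center_iff.1 (hcen hy') x).mul_pow, hx, hy, one_mul]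
    | inv x _ hx => rw [inv_pow, hx, inv_one]
  obtain ⟨hexp, hker⟩ := CfsgLib.Kinf.omega_two (h2.to_subgroup C) hel hcen
  set D : Subgroup C := closure {g : C | g ^ 4 = 1} with hD
  haveI : D.Characteristic := characteristic_iff_map_le.2 fun φ => by
    rw [hD, MonoidHom.map_closure]
    refine closure_mono ?_
    rintro _ ⟨g, hg, rfl⟩
    show φ g ^ 4 = 1
    rw [← map_pow, (hg : g ^ 4 = 1), map_one]
  refine solvable_of_ker (restr D) (solvable_of_isPGroup_two fun φ => ?_) ?_
  · obtain ⟨k, hk⟩ := hker φ fun g hg => congrArg Subtype.val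
      (MulEquiv.congr_fun (MonoidHom.mem_ker.1 φ.2) ⟨g, subset_closure hg⟩)
    exact ⟨k, Subtype.ext hk⟩
  suffices Group.IsSolvable (MulAut D) by infer_instance
  refine solvable_aut_exp_four ((h2.to_subgroup C).to_subgroup D) (fun x => Subtype.ext (hexp x x.2)) fun S hS => ?_
  haveI := Fintype.ofFinite X
  have hsub : S.image (fun x : D => ((x : C) : X)) ⊆
      insert 1 (Finset.univ.filter fun x : X => orderOf x = 2) := by
    intro y hy
    obtain ⟨x, hx, rfl⟩ := Finset.mem_image.1 hy
    rcases eq_or_ne ((x : C) : X) 1 with h | h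
    · exact Finset.mem_insert.2 (Or.inl h)
    · refine Finset.mem_insert_of_mem (Finset.mem_filter.2 ⟨Finset.mem_univ _, orderOf_eq_prime ?_ h⟩)
      rw [pow_two]
      exact congrArg (fun u : D => ((u : C) : X)) (hS x hx)
  have := (Finset.card_le_card hsub).trans (Finset.card_insert_le _ _)
  rw [Finset.card_image_of_injective S (f := fun x : D => ((x : C) : X))
    (fun a b h => Subtype.ext (Subtype.ext h))] at this
  have h3' : (Finset.univ.filter fun x : X => orderOf x = 2).card = 3 := by
    rw [← Fintype.card_subtype, ← Nat.card_eq_fintype_card, h3]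
  omega

end CfsgLib.ThreeInvolutions
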